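import Groth.Agent.Etbc.H182.Skel
import Groth.Agent.CurvesA.SubSheafEt
import Groth.Agent.Etbase.PullUnit
import Groth.Agent.Proet.Spectral

/-!
# S3521 (K): existence of a point by compactness of the constructible topology

Let `F` be a nonzero abelian étale sheaf on a quasi-compact quasi-separated scheme `X` such that any
two nonzero subsheaves meet. Then there is a point `x` lying in the image of the support of every nonzero
section of `F`; for every `q : U ⟶ X` whose image contains `x` the map `F ⟶ q_* q⁻¹ F` is injective.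
-/

set_option autoImplicit false
universe u v

open CategoryTheory CategoryTheory.Limits AlgebraicGeometry Opposite Topology

namespace Groth.Agent.Etbc.H297.ExistsPoint

open Groth.Agent.CurvesA.SubSheafEt Groth.Agent.Etbase.EtSections Groth.Agent.Proet.Spectral

section Top

variable {A : Type u} {B : Type v} [TopologicalSpace A] [TopologicalSpace B]

/-- Spectral maps are continuous for the constructible topologies. -/
theorem continuous_constr {f : A → B} (hf : IsSpectralMap f) :
    Continuous[constructibleTopology A, constructibleTopology B] f := by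
  refine (@continuous_generateFrom_iff _ _ f (constructibleTopology A) _).2 ?_
  rintro s (⟨ho, hc⟩ | ⟨ho, hc⟩)
  · exact IsCompact.isOpen_constructibleTopology_of_isOpen (hf.isCompact_preimage_of_isOpen ho hc)
      (ho.preimage hf.continuous)
  · refine IsCompact.isOpen_constructibleTopology_of_isClosed ?_ (ho.preimage hf.continuous)
    rw [← Set.preimage_compl]
    exact hf.isCompact_preimage_of_isOpen ho.isOpen_compl hc

/-- The image of a pro-constructible set under a spectral map is pro-constructible. -/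
theorem isProCons_image [CompactSpace A] [QuasiSober A] [PrespectralSpace A] [QuasiSeparatedSpace A]
    [T0Space B] [CompactSpace B] [QuasiSober B] [PrespectralSpace B] [QuasiSeparatedSpace B]
    {f : A → B} (hf : IsSpectralMap f) {s : Set A} (hs : IsProCons s) : IsProCons (f '' s) := by
  have h1 : @IsCompact B (constructibleTopology B) (f '' s) :=
    @IsCompact.image A B (constructibleTopology A) (constructibleTopology B) s f
      hs.isCompact_constr (continuous_constr hf)
  have : SpectralSpace B := {}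
  exact @IsCompact.isClosed B (constructibleTopology B) t2Space_constr _ h1

end Top

variable {X : Scheme.{u}}

theorem vanishesAt_add {F : EtCoh.Ab X} {U : X.Etale} {s t : EtCoh.sect F U} {x : U.left}
    (hs : VanishesAt F U s x) (ht : VanishesAt F U t x) : VanishesAt F U (s + t) x := by
  obtain ⟨V, g, v, hv, hg⟩ := hs
  rw [← hv, ← vanishesAt_map_iff] at ht
  obtain ⟨W, k, w, hw, hk⟩ := ht
  refine ⟨W, k ≫ g, w, ?_, ?_⟩
  · rw [← hv, ← hw]; rfl
  · rw [map_add, ← map_map, ← map_map, hg, hk, map_zero, add_zero]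

theorem vanishesAt_neg {F : EtCoh.Ab X} {U : X.Etale} {s : EtCoh.sect F U} {x : U.left}
    (hs : VanishesAt F U s x) : VanishesAt F U (-s) x := by
  obtain ⟨V, g, v, hv, hg⟩ := hs
  exact ⟨V, g, v, hv, by rw [map_neg, hg, neg_zero]⟩

theorem hom_left {U V : X.Etale} (f : V ⟶ U) (v : V.left) : U.hom (f.left v) = V.hom v := by
  have h : f.left ≫ U.hom = V.hom := Over.w f.hom
  rw [← h]; rfl

/-- Sections vanishing at all points not lying over `T`. -/
noncomputable def suppData (F : EtCoh.Ab X) (T : Set X) : SubData F where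
  P U :=
    { carrier := {s | ∀ u : U.left, U.hom u ∉ T → VanishesAt F U s u}
      zero_mem' := fun u _ => vanishesAt_zero F U u
      add_mem' := fun hs ht u hu => vanishesAt_add (hs u hu) (ht u hu)
      neg_mem' := fun hs u hu => vanishesAt_neg (hs u hu) }
  res {U V} f s hs v hv := by
    rw [vanishesAt_map_iff]
    exact hs _ (by rwa [hom_left])
  loc U s h u hu := by
    obtain ⟨V, f, v, rfl, hs⟩ := h u
    rw [← vanishesAt_map_iff]
    exact hs v (by rwa [hom_left] at hu)

theorem mem_suppData {F : EtCoh.Ab X} {T : Set X} {U : X.Etale} {s : EtCoh.sect F U} :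
    s ∈ (suppData F T).P U ↔ ∀ u : U.left, U.hom u ∉ T → VanishesAt F U s u := Iff.rfl

/-- `F` has a nonzero section supported over `T`. -/
def Big (F : EtCoh.Ab X) (T : Set X) : Prop :=
  ∃ (U : X.Etale) (s : EtCoh.sect F U), s ≠ 0 ∧ s ∈ (suppData F T).P U

theorem big_univ {F : EtCoh.Ab X} (hF : ¬ IsZero F) : Big F Set.univ := by
  by_contra h
  apply hF
  rw [IsZero.iff_id_eq_zero]
  apply Sheaf.hom_ext
  ext U s
  by_contra hs
  exact h ⟨U.unop, s, hs, fun u hu => (hu trivial).elim⟩

/-- Two nonzero subsheaves of sections with support meet. -/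
theorem big_inter {F : EtCoh.Ab X}
    (hF : ∀ (G₁ G₂ : EtCoh.Ab X) (ψ₁ : F ⟶ G₁) (ψ₂ : F ⟶ G₂), Epi ψ₁ → Epi ψ₂ →
      Mono (biprod.lift ψ₁ ψ₂) → Mono ψ₁ ∨ Mono ψ₂)
    {T₁ T₂ : Set X} (h₁ : Big F T₁) (h₂ : Big F T₂) : Big F (T₁ ∩ T₂) := by
  by_contra h
  have key : ∀ (T : Set X), Big F T → ¬ Mono (cokernel.π (CurvesA.SubSheafEt.ι (suppData F T))) := by
    rintro T ⟨U, s, hs, hsT⟩ hm
    have h0 : CurvesA.SubSheafEt.ι (suppData F T) = 0 := by
      rw [← cancel_mono (cokernel.π (CurvesA.SubSheafEt.ι (suppData F T))), cokernel.condition, zero_comp]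
    apply hs
    have h1 : (CurvesA.SubSheafEt.ι (suppData F T)).hom.app (op U)
        (⟨s, hsT⟩ : (suppData F T).P U) = s := rfl
    rw [← h1, h0]
    rfl
  have hmono : Mono (biprod.lift (cokernel.π (CurvesA.SubSheafEt.ι (suppData F T₁)))
      (cokernel.π (CurvesA.SubSheafEt.ι (suppData F T₂)))) := by
    refine Preadditive.mono_of_cancel_zero _ fun {Z} g hg => ?_
    have fac : ∀ (T : Set X), g ≫ cokernel.π (CurvesA.SubSheafEt.ι (suppData F T)) = 0 →
        ∀ (U : X.Etale) (s : EtCoh.sect Z U), g.hom.app (op U) s ∈ (suppData F T).P U := by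
      intro T hT U s
      have hfac := Abelian.monoLift_comp (CurvesA.SubSheafEt.ι (suppData F T)) g hT
      have e : g.hom.app (op U) s = (CurvesA.SubSheafEt.ι (suppData F T)).hom.app (op U)
          ((Abelian.monoLift (CurvesA.SubSheafEt.ι (suppData F T)) g hT).hom.app (op U) s) := by
        conv_lhs => rw [← hfac]
        rfl
      rw [e]
      exact ((Abelian.monoLift (CurvesA.SubSheafEt.ι (suppData F T)) g hT).hom.app (op U) s).2
    have g1 : g ≫ cokernel.π (CurvesA.SubSheafEt.ι (suppData F T₁)) = 0 := by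
      have := congrArg (fun t => t ≫ biprod.fst) hg
      simpa using this
    have g2 : g ≫ cokernel.π (CurvesA.SubSheafEt.ι (suppData F T₂)) = 0 := by
      have := congrArg (fun t => t ≫ biprod.snd) hg
      simpa using this
    apply Sheaf.hom_ext
    ext U s
    by_contra hs
    refine h ⟨U.unop, g.hom.app U s, hs, fun u hu => ?_⟩
    rw [Set.mem_inter_iff, not_and_or] at hu
    rcases hu with hu | hu
    · exact fac T₁ g1 U.unop s u hu
    · exact fac T₂ g2 U.unop s u hu
  rcases hF _ _ _ _ inferInstance inferInstance hmono with h' | h'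
  · exact key T₁ h₁ h'
  · exact key T₂ h₂ h'

/-- The image in `X` of the support of a section. -/
def img (F : EtCoh.Ab X) (U : X.Etale) (s : EtCoh.sect F U) : Set X :=
  U.hom '' {u | ¬ VanishesAt F U s u}

theorem mem_suppData_img (F : EtCoh.Ab X) (U : X.Etale) (s : EtCoh.sect F U) :
    s ∈ (suppData F (img F U s)).P U := by
  intro u hu
  by_contra h
  exact hu ⟨u, h, rfl⟩

theorem isProCons_img [CompactSpace X] [QuasiSeparatedSpace X] (F : EtCoh.Ab X) (U : X.Etale)
    [IsAffine U.left] (s : EtCoh.sect F U) : IsProCons (img F U s) := by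
  let f : U.left ⟶ X := U.hom
  have hf : IsSpectralMap f := by
    have : QuasiCompact f := inferInstance
    exact f.isSpectralMap
  exact isProCons_image (f := f) hf
    (isProCons_of_isClosed (isOpen_vanishesAt F U s).isClosed_compl)

/-- Nonzero sections stay nonzero on some affine étale neighbourhood. -/
theorem exists_affine_ne_zero (F : EtCoh.Ab X) (U : X.Etale) (s : EtCoh.sect F U) (hs : s ≠ 0) :
    ∃ (V : X.Etale) (g : V ⟶ U), IsAffine V.left ∧ F.obj.map g.op s ≠ 0 := by
  have h : ∃ x, ¬ VanishesAt F U s x := by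
    by_contra! h
    exact hs (eq_zero_of_vanishesAt F U s h)
  obtain ⟨x, hx⟩ := h
  obtain ⟨W, hW, hxW, -⟩ := exists_isAffineOpen_mem_and_subset (U := (⊤ : U.left.Opens)) (x := x)
    trivial
  have : IsAffine (W : Scheme.{u}) := hW
  have hUe : Etale U.hom := U.prop
  let V : X.Etale := Scheme.Etale.mk (W.ι ≫ U.hom)
  let k : V ⟶ U := MorphismProperty.Over.homMk W.ι rfl
  exact ⟨V, k, this, fun h0 => hx ⟨V, k, (⟨x, hxW⟩ : W), rfl, h0⟩⟩

theorem existsPoint : Groth.Agent.Etbc.H182.Skel.ExistsPoint.{u} := by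
  classical
  intro X _ _ F hF0 hF
  let ι := {i : Σ U : X.Etale, EtCoh.sect F U // IsAffine i.1.left ∧ i.2 ≠ 0}
  let T : ι → Set X := fun i => img F i.1.1 i.1.2
  have hT : ∀ i, IsProCons (T i) := fun i => by
    have := i.2.1
    exact isProCons_img F i.1.1 i.1.2
  have hbig : ∀ t : Finset ι, Big F (⋂ i ∈ t, T i) := by
    intro t
    induction t using Finset.induction_on with
    | empty => simpa using big_univ hF0
    | insert a t _ ih =>
      rw [Finset.set_biInter_insert]
      exact big_inter hF ⟨a.1.1, a.1.2, a.2.2, mem_suppData_img F a.1.1 a.1.2⟩ ih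
  have hne : ∀ T : Set X, Big F T → T.Nonempty := by
    rintro T ⟨U, s, hs, hsT⟩
    have h : ∃ x, ¬ VanishesAt F U s x := by
      by_contra! h
      exact hs (eq_zero_of_vanishesAt F U s h)
    obtain ⟨x, hx⟩ := h
    refine ⟨U.hom x, ?_⟩
    by_contra hxT
    exact hx (hsT x hxT)
  obtain ⟨x, hx⟩ := nonempty_iInter_of_fip T hT fun t => hne _ (hbig t)
  refine ⟨x, fun {U'} q hq => ?_⟩
  obtain ⟨u, hu⟩ := hq
  refine Preadditive.mono_of_cancel_zero _ fun {Z} g hg => ?_
  apply Sheaf.hom_ext
  ext W s
  by_contra hs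
  obtain ⟨V, k, hV, hk⟩ := exists_affine_ne_zero F W.unop (g.hom.app W s) hs
  have hxV : x ∈ img F V (F.obj.map k.op (g.hom.app W s)) :=
    Set.mem_iInter.1 hx ⟨⟨V, F.obj.map k.op (g.hom.app W s)⟩, hV, hk⟩
  obtain ⟨v, hv, hvx⟩ := hxV
  have huv : V.hom v = q u := by rw [hvx]; exact hu.symm
  obtain ⟨z, hz1, hz2⟩ := Scheme.Pullback.exists_preimage_pullback (f := V.hom) (g := q) v u huv
  apply hv
  rw [← hz1]
  refine (Etbase.PullUnit.vanishesAt_unitSect_iff q F V _ z).1 ?_
  have h0 : Etbase.PullUnit.unitSect q F V (F.obj.map k.op (g.hom.app W s)) = 0 := by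
    rw [Etbase.PullUnit.map_unitSect]
    have h1 : Etbase.PullUnit.unitSect q F W.unop (g.hom.app W s) = 0 := by
      have := ConcreteCategory.congr_hom (congrArg (fun t => t.hom.app W) hg) s
      exact this
    rw [h1, map_zero]
  rw [h0]
  exact vanishesAt_zero ((EtCoh.pull q).obj F) ((EtCoh.bc q).obj V) z

end Groth.Agent.Etbc.H297.ExistsPoint
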